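import Mathlib
import Cfsg.Prelude.Def_GeometricClasses
import Cfsg.Agent.Helper2.SU.Main
import Cfsg.Agent.Helper28.UPair1
import Cfsg.Agent.Helper1.S5639Defs
import Cfsg.Agent.Helper1.S5639Lib

set_option autoImplicit false

/-! # S5658 (subfield subgroups `SU_n(q₀)` are maximal in `SU_n(q)`, `q = q₀ ^ r`, `r` an odd prime): definitions

Model: `K` a field with `q ^ 2` elements, `D : Frob K q` (`D.σ x = x ^ q`), `h = Cfsg.hermForm n K q`
(`h x y = ∑ x i * (y i) ^ q`, linear in `x`, `σ`-semilinear in `y`), `F₀ : Subfield K`, rational = all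
entries in `F₀` (`Rat`, `RatM`, `PRat`, `InN` of `Cfsg.Agent.S5639P`).  Root elements:
`T v c = Cfsg.unitaryTransvection n q v c` (`z ↦ z + (c * h z v) • v`, an isometry when `h v v = 0`, `σ c = -c`),
`Sg x w c` of `Cfsg.Agent.Helper2.SUGen` (`z ↦ z + h z x • w - h z w • x + (c * h z x) • x`, an isometry when
`h x x = 0`, `h w x = 0`, `c + σ c + h w w = 0`: the general element of the unipotent radical `Q_x`), and the
short root element `S u w c = Sg u (c • w) 0` (`z ↦ z + (c * h z u) • w - (σ c * h z w) • u`, `u, w` isotropic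
and orthogonal). -/

namespace Cfsg.Agent.S5658P

open Matrix
open Cfsg.Agent.S2644 Cfsg.Agent.Helper2.SUGen Cfsg.Agent.Helper28.SimMax Cfsg.Agent.S5639P

variable {K : Type*} [Field K] {q n : ℕ}

/-- the short root element `z ↦ z + (c * h z u) • w - (σ c * h z w) • u` -/
def S (q : ℕ) (u w : Fin n → K) (c : K) : Matrix (Fin n) (Fin n) K := Sg (q := q) u (c • w) 0

/-- `M` contains the rational special unitary matrices -/
def HasRatSU (q : ℕ) (F₀ : Subfield K) (M : Subgroup (Matrix.GeneralLinearGroup (Fin n) K)) : Prop :=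
  ∀ A : Matrix (Fin n) (Fin n) K, RatM F₀ A → Pres (q := q) A → A.det = 1 → A ∈ MS M

/-- the parameters of the short root elements of `M` attached to rational isotropic pairs -/
def KS (q : ℕ) (F₀ : Subfield K) (M : Subgroup (Matrix.GeneralLinearGroup (Fin n) K)) : Set K :=
  {c | ∀ u w : Fin n → K, Rat F₀ u → Rat F₀ w → Cfsg.hermForm n K q u u = 0 →
    Cfsg.hermForm n K q w w = 0 → Cfsg.hermForm n K q w u = 0 → LinearIndependent K ![u, w] →
    S q u w c ∈ MS M}

/-- the (skew) parameters of the transvections of `M` with rational centre -/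
def KT (D : Frob K q) (F₀ : Subfield K) (M : Subgroup (Matrix.GeneralLinearGroup (Fin n) K)) : Set K :=
  {c | D.σ c = -c ∧ ∀ u : Fin n → K, Rat F₀ u → Cfsg.hermForm n K q u u = 0 →
    Cfsg.unitaryTransvection n q u c ∈ MS M}

/-- a transvection of `M` with rational centre has a rational parameter -/
def RootRatT (D : Frob K q) (F₀ : Subfield K) (M : Subgroup (Matrix.GeneralLinearGroup (Fin n) K)) :
    Prop :=
  ∀ (u : Fin n → K) (c : K), Rat F₀ u → u ≠ 0 → Cfsg.hermForm n K q u u = 0 → D.σ c = -c →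
    Cfsg.unitaryTransvection n q u c ∈ MS M → c ∈ F₀

/-- the rational elements of the centre of the unipotent radical of the stabiliser of the isotropic
line `⟨u₀, w₀⟩`, as a set of matrices -/
def RSet (D : Frob K q) (F₀ : Subfield K) (u₀ w₀ : Fin n → K) : Set (Matrix (Fin n) (Fin n) K) :=
  {A | ∃ s s' c : K, s ∈ F₀ ∧ s' ∈ F₀ ∧ c ∈ F₀ ∧ D.σ s = -s ∧ D.σ s' = -s' ∧
    A = Cfsg.unitaryTransvection n q u₀ s * Cfsg.unitaryTransvection n q w₀ s' * S q u₀ w₀ c}

/-- the group generated by `RSet` (equal to it, see `RGRP.mem_iff`) -/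
def Rgrp (D : Frob K q) (F₀ : Subfield K) (u₀ w₀ : Fin n → K) :
    Subgroup (Matrix.GeneralLinearGroup (Fin n) K) :=
  Subgroup.closure {g | ((g : Matrix.GeneralLinearGroup (Fin n) K) : Matrix (Fin n) (Fin n) K) ∈
    RSet D F₀ u₀ w₀}

/-- the group generated by `R` and `y R y⁻¹` -/
def Dgrp (D : Frob K q) (F₀ : Subfield K) (y : Matrix.GeneralLinearGroup (Fin n) K)
    (u₀ w₀ : Fin n → K) : Subgroup (Matrix.GeneralLinearGroup (Fin n) K) :=
  Rgrp D F₀ u₀ w₀ ⊔ (Rgrp D F₀ u₀ w₀).map (MulAut.conj y).toMonoidHom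

/-- a rational hyperbolic frame of length `k` -/
structure HFrame (q : ℕ) (F₀ : Subfield K) {k : ℕ} (e f : Fin k → Fin n → K) : Prop where
  rat_e : ∀ i, Rat F₀ (e i)
  rat_f : ∀ i, Rat F₀ (f i)
  ee : ∀ i j, Cfsg.hermForm n K q (e i) (e j) = 0
  ff : ∀ i j, Cfsg.hermForm n K q (f i) (f j) = 0
  ef : ∀ i j, Cfsg.hermForm n K q (e i) (f j) = if i = j then 1 else 0

end Cfsg.Agent.S5658P
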