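import Mathlib
import Cfsg.Agent.Helper28.S5658.Defs
import Cfsg.Agent.Helper28.UnitMax

set_option autoImplicit false

/-! # S5658: the calculus of root elements, `MS` lemmas, rational vectors, the subfield as a unitary field -/

namespace Cfsg.Agent.S5658P

open Matrix
open Cfsg.Agent.S2644 Cfsg.Agent.Helper2.SUGen Cfsg.Agent.Helper28.SimMax Cfsg.Agent.S5639P

variable {K : Type*} [Field K] {q n : ℕ}

local notation "h" => Cfsg.hermForm n K q
local notation "T" => Cfsg.unitaryTransvection n q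

/-! ### membership in `GU ⊓ SL` -/

theorem mem_G_iff (g : Matrix.GeneralLinearGroup (Fin n) K) :
    g ∈ Cfsg.GU n K q ⊓ Cfsg.Geo.specialLinear (Fin n) K ↔
      Pres (q := q) (g : Matrix (Fin n) (Fin n) K) ∧ (g : Matrix (Fin n) (Fin n) K).det = 1 :=
  Cfsg.Agent.Helper28.UM.mem_G_iff g

theorem MS_iff_InM (M : Subgroup (Matrix.GeneralLinearGroup (Fin n) K)) (A : Matrix (Fin n) (Fin n) K) :
    A ∈ MS M ↔ Cfsg.Agent.Helper28.UPair.InM M A := Iff.rfl

theorem pres_of_MS {M : Subgroup (Matrix.GeneralLinearGroup (Fin n) K)}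
    (hM : M ≤ Cfsg.GU n K q ⊓ Cfsg.Geo.specialLinear (Fin n) K) {A : Matrix (Fin n) (Fin n) K}
    (hA : A ∈ MS M) : Pres (q := q) A := by
  obtain ⟨g, hg, rfl⟩ := hA
  exact ((mem_G_iff g).1 (hM hg)).1

theorem det_of_MS {M : Subgroup (Matrix.GeneralLinearGroup (Fin n) K)}
    (hM : M ≤ Cfsg.GU n K q ⊓ Cfsg.Geo.specialLinear (Fin n) K) {A : Matrix (Fin n) (Fin n) K}
    (hA : A ∈ MS M) : A.det = 1 := by
  obtain ⟨g, hg, rfl⟩ := hA
  exact ((mem_G_iff g).1 (hM hg)).2

/-- an invertible matrix as an element of `GL` -/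
noncomputable def toGL (A A' : Matrix (Fin n) (Fin n) K) (h1 : A * A' = 1) (h2 : A' * A = 1) :
    Matrix.GeneralLinearGroup (Fin n) K := ⟨A, A', h1, h2⟩

@[simp] theorem toGL_val (A A' : Matrix (Fin n) (Fin n) K) (h1 : A * A' = 1) (h2 : A' * A = 1) :
    ((toGL A A' h1 h2 : Matrix.GeneralLinearGroup (Fin n) K) : Matrix (Fin n) (Fin n) K) = A := rfl

/-- the inverse matrix of an element of `GL` -/
theorem inv_mul_coe (g : Matrix.GeneralLinearGroup (Fin n) K) :
    ((g⁻¹ : Matrix.GeneralLinearGroup (Fin n) K) : Matrix (Fin n) (Fin n) K) *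
      (g : Matrix (Fin n) (Fin n) K) = 1 := by
  rw [← Units.val_mul, inv_mul_cancel, Units.val_one]

theorem mul_inv_coe (g : Matrix.GeneralLinearGroup (Fin n) K) :
    (g : Matrix (Fin n) (Fin n) K) *
      ((g⁻¹ : Matrix.GeneralLinearGroup (Fin n) K) : Matrix (Fin n) (Fin n) K) = 1 := by
  rw [← Units.val_mul, mul_inv_cancel, Units.val_one]

theorem MS_of_mul_left {M : Subgroup (Matrix.GeneralLinearGroup (Fin n) K)}
    {A B : Matrix (Fin n) (Fin n) K} (hA : A ∈ MS M) (hAB : A * B ∈ MS M) : B ∈ MS M := by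
  obtain ⟨a, ha, rfl⟩ := hA
  obtain ⟨c, hc, hcAB⟩ := hAB
  refine ⟨a⁻¹ * c, M.mul_mem (M.inv_mem ha) hc, ?_⟩
  rw [Units.val_mul, hcAB, ← mul_assoc, inv_mul_coe, one_mul]

theorem MS_of_mul_right {M : Subgroup (Matrix.GeneralLinearGroup (Fin n) K)}
    {A B : Matrix (Fin n) (Fin n) K} (hB : B ∈ MS M) (hAB : A * B ∈ MS M) : A ∈ MS M := by
  obtain ⟨b, hb, rfl⟩ := hB
  obtain ⟨c, hc, hcAB⟩ := hAB
  refine ⟨c * b⁻¹, M.mul_mem hc (M.inv_mem hb), ?_⟩
  rw [Units.val_mul, hcAB, mul_assoc, mul_inv_coe, mul_one]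

/-! ### the form -/

variable (D : Frob K q)

include D in
theorem h_sum_right {ι : Type*} (s : Finset ι) (x : Fin n → K) (y : ι → Fin n → K) :
    h x (∑ i ∈ s, y i) = ∑ i ∈ s, h x (y i) := by
  classical
  induction s using Finset.induction_on with
  | empty => simp [h_zero_right D]
  | insert a s ha ih => rw [Finset.sum_insert ha, Finset.sum_insert ha, h_add_right D, ih]

omit D in
theorem h_sum_left {ι : Type*} (s : Finset ι) (x : ι → Fin n → K) (y : Fin n → K) :
    h (∑ i ∈ s, x i) y = ∑ i ∈ s, h (x i) y := by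
  classical
  induction s using Finset.induction_on with
  | empty => simp
  | insert a s ha ih => rw [Finset.sum_insert ha, Finset.sum_insert ha, h_add_left, ih]

include D in
/-- `h z e_i = z i` -/
theorem h_single_right (z : Fin n → K) (i : Fin n) : h z (Pi.single i 1) = z i :=
  herm_single_right D.σ D.pow z i

include D in
/-- `h e_i z = σ (z i)` -/
theorem h_single_left (z : Fin n → K) (i : Fin n) : h (Pi.single i 1) z = D.σ (z i) := by
  rw [← h_conj D, h_single_right D]

/-! ### transvections -/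

include D in
theorem pres_T {v : Fin n → K} (hvv : h v v = 0) {c : K} (hc : D.σ c = -c) : Pres (q := q) (T v c) := by
  have := Sg_pres D v 0 c hvv (h_zero_left v) (by rw [h_zero_left, hc]; ring)
  rwa [Sg_zero D] at this

include D in
theorem det_T {v : Fin n → K} (hvv : h v v = 0) (c : K) : (T v c).det = 1 := by
  have := Sg_det D v 0 c hvv (h_zero_left v)
  rwa [Sg_zero D] at this

omit D in
theorem T_zero (v : Fin n → K) : T v (0 : K) = 1 := Cfsg.Agent.S0781.T_zero_coeff v

omit D in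
theorem T_zero_vec (c : K) : T (0 : Fin n → K) c = 1 := by
  apply mat_ext
  intro z
  rw [T_mulVec, smul_zero, add_zero, one_mulVec]

omit D in
theorem T_add_param {v : Fin n → K} (hvv : h v v = 0) (c c' : K) : T v (c + c') = T v c * T v c' := by
  apply mat_ext
  intro z
  rw [← mulVec_mulVec, T_mulVec, T_mulVec, T_mulVec, h_add_left, h_smul_left, hvv]
  module

omit D in
theorem T_mul_neg {v : Fin n → K} (hvv : h v v = 0) (c : K) : T v c * T v (-c) = 1 := by
  rw [← T_add_param hvv, add_neg_cancel, T_zero]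

omit D in
theorem T_neg_mul {v : Fin n → K} (hvv : h v v = 0) (c : K) : T v (-c) * T v c = 1 := by
  rw [← T_add_param hvv, neg_add_cancel, T_zero]

include D in
theorem T_smul (a : K) (v : Fin n → K) (c : K) : T (a • v) c = T v (a * D.σ a * c) :=
  Cfsg.Agent.Helper28.UPair.T_smul D a v c

include D in
/-- conjugation of a transvection by an isometry -/
theorem conj_T {A A' : Matrix (Fin n) (Fin n) K} (hA : Pres (q := q) A) (h1 : A * A' = 1)
    (v : Fin n → K) (c : K) : A * T v c * A' = T (A *ᵥ v) c := by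
  rw [Cfsg.Agent.Helper28.UPair.T_conj D hA, mul_assoc, h1, mul_one]

/-! ### Siegel elements and short root elements -/

include D in
theorem conj_Sg {A A' : Matrix (Fin n) (Fin n) K} (hA : Pres (q := q) A) (h1 : A * A' = 1)
    (x w : Fin n → K) (c : K) : A * Sg (q := q) x w c * A' = Sg (q := q) (A *ᵥ x) (A *ᵥ w) c := by
  rw [Sg_conj D A hA, mul_assoc, h1, mul_one]

include D in
theorem S_mulVec (u w : Fin n → K) (c : K) (z : Fin n → K) :
    S q u w c *ᵥ z = z + (c * h z u) • w - (D.σ c * h z w) • u := by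
  unfold S
  rw [Sg_mulVec, h_smul_right D]
  module

include D in
theorem conj_S {A A' : Matrix (Fin n) (Fin n) K} (hA : Pres (q := q) A) (h1 : A * A' = 1)
    (u w : Fin n → K) (c : K) : A * S q u w c * A' = S q (A *ᵥ u) (A *ᵥ w) c := by
  unfold S
  rw [conj_Sg D hA h1, mulVec_smul]

include D in
theorem pres_S {u w : Fin n → K} (huu : h u u = 0) (hww : h w w = 0) (hwu : h w u = 0) (c : K) :
    Pres (q := q) (S q u w c) := by
  unfold S
  apply Sg_pres D u (c • w) 0 huu
  · rw [h_smul_left, hwu, mul_zero]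
  · rw [h_smul_left, h_smul_right D, hww]; simp

include D in
theorem det_S {u w : Fin n → K} (huu : h u u = 0) (hwu : h w u = 0) (c : K) :
    (S q u w c).det = 1 := by
  unfold S
  apply Sg_det D u (c • w) 0 huu
  rw [h_smul_left, hwu, mul_zero]

include D in
theorem S_zero (u w : Fin n → K) : S q u w (0 : K) = 1 := by
  apply mat_ext
  intro z
  rw [S_mulVec D, one_mulVec]
  simp

include D in
theorem S_add_param {u w : Fin n → K} (huu : h u u = 0) (hww : h w w = 0) (hwu : h w u = 0)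
    (c c' : K) : S q u w (c + c') = S q u w c * S q u w c' := by
  have huw : h u w = 0 := h_symm_zero D hwu
  apply mat_ext
  intro z
  rw [← mulVec_mulVec, S_mulVec D, S_mulVec D, S_mulVec D]
  simp only [h_add_left, h_sub_left, h_smul_left, huu, hww, hwu, huw, map_add]
  module

include D in
theorem S_mul_neg {u w : Fin n → K} (huu : h u u = 0) (hww : h w w = 0) (hwu : h w u = 0)
    (c : K) : S q u w c * S q u w (-c) = 1 := by
  rw [← S_add_param D huu hww hwu, add_neg_cancel, S_zero D]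

include D in
theorem S_neg_mul {u w : Fin n → K} (huu : h u u = 0) (hww : h w w = 0) (hwu : h w u = 0)
    (c : K) : S q u w (-c) * S q u w c = 1 := by
  rw [← S_add_param D huu hww hwu, neg_add_cancel, S_zero D]

include D in
theorem S_smul_left (a : K) (u w : Fin n → K) (c : K) : S q (a • u) w c = S q u w (D.σ a * c) := by
  apply mat_ext
  intro z
  rw [S_mulVec D, S_mulVec D, h_smul_right D, map_mul, D.invol]
  module

include D in
theorem S_smul_right (b : K) (u w : Fin n → K) (c : K) : S q u (b • w) c = S q u w (b * c) := by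
  apply mat_ext
  intro z
  rw [S_mulVec D, S_mulVec D, h_smul_right D, map_mul]
  module

include D in
theorem S_swap (u w : Fin n → K) (c : K) : S q w u c = S q u w (-(D.σ c)) := by
  apply mat_ext
  intro z
  rw [S_mulVec D, S_mulVec D, map_neg, D.invol]
  module

include D in
/-- additivity in the second vector for pairwise orthogonal isotropic vectors -/
theorem S_add_right {u w w' : Fin n → K} (huu : h u u = 0) (hwu : h w u = 0) (hw'u : h w' u = 0)
    (hw'w : h w' w = 0) (c : K) : S q u (w + w') c = S q u w c * S q u w' c := by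
  have huw : h u w = 0 := h_symm_zero D hwu
  have huw' : h u w' = 0 := h_symm_zero D hw'u
  apply mat_ext
  intro z
  rw [← mulVec_mulVec, S_mulVec D, S_mulVec D, S_mulVec D]
  simp only [h_add_left, h_sub_left, h_smul_left, h_add_right D, huu, hw'u, hw'w, huw]
  module

include D in
/-- the transvection with centre `u + w` (`u`, `w` isotropic and orthogonal) -/
theorem T_add_vec {u w : Fin n → K} (huu : h u u = 0) (hww : h w w = 0) (hwu : h w u = 0) {c : K}
    (hc : D.σ c = -c) : T (u + w) c = S q u w c * T u c * T w c := by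
  have huw : h u w = 0 := h_symm_zero D hwu
  apply mat_ext
  intro z
  rw [← mulVec_mulVec, ← mulVec_mulVec, T_mulVec, T_mulVec, T_mulVec, S_mulVec D]
  simp only [h_add_left, h_add_right D, h_smul_left, huu, hww, hwu, huw, hc]
  module

/-! ### rational vectors and matrices -/

omit D in
theorem sigma_mem (D : Frob K q) (F₀ : Subfield K) {x : K} (hx : x ∈ F₀) : D.σ x ∈ F₀ := by
  rw [D.pow]; exact pow_mem hx q

variable (F₀ : Subfield K)

omit D in
theorem Rat.herm {u w : Fin n → K} (hu : Rat F₀ u) (hw : Rat F₀ w) : h u w ∈ F₀ := by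
  unfold Cfsg.hermForm
  apply sum_mem
  intro i _
  exact mul_mem (hu i) (pow_mem (hw i) q)

omit D in
theorem RatM.smul {c : K} (hc : c ∈ F₀) {A : Matrix (Fin n) (Fin n) K} (hA : RatM F₀ A) :
    RatM F₀ (c • A) := fun i j => mul_mem hc (hA i j)

omit D in
theorem RatM.add {A B : Matrix (Fin n) (Fin n) K} (hA : RatM F₀ A) (hB : RatM F₀ B) :
    RatM F₀ (A + B) := fun i j => add_mem (hA i j) (hB i j)

omit D in
theorem RatM.vecMulVec_cj {a b : Fin n → K} (ha : Rat F₀ a) (hb : Rat F₀ b) :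
    RatM F₀ (Matrix.vecMulVec a (cj (q := q) b)) := by
  intro i j
  rw [Matrix.vecMulVec_apply]
  exact mul_mem (ha i) (pow_mem (hb j) q)

omit D in
theorem RatM.T {v : Fin n → K} (hv : Rat F₀ v) {c : K} (hc : c ∈ F₀) : RatM F₀ (T v c) := by
  unfold Cfsg.unitaryTransvection
  exact RatM.add F₀ RatM.one (RatM.smul F₀ hc (RatM.vecMulVec_cj F₀ hv hv))

omit D in
theorem RatM.Sg {x w : Fin n → K} (hx : Rat F₀ x) (hw : Rat F₀ w) {c : K} (hc : c ∈ F₀) :
    RatM F₀ (Sg (q := q) x w c) := by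
  unfold Cfsg.Agent.Helper2.SUGen.Sg
  refine RatM.add F₀ (RatM.add F₀ RatM.one (RatM.vecMulVec_cj F₀ hw hx)) ?_
  intro i j
  rw [Matrix.vecMulVec_apply]
  refine mul_mem (hx i) ?_
  simp only [Pi.add_apply, Pi.neg_apply, Pi.smul_apply, smul_eq_mul, cj]
  exact add_mem (neg_mem (pow_mem (hw j) q)) (mul_mem hc (pow_mem (hx j) q))

omit D in
theorem RatM.S {u w : Fin n → K} (hu : Rat F₀ u) (hw : Rat F₀ w) {c : K} (hc : c ∈ F₀) :
    RatM F₀ (S q u w c) :=
  RatM.Sg F₀ hu (Rat.smul hc hw) F₀.zero_mem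

variable {F₀} {M : Subgroup (Matrix.GeneralLinearGroup (Fin n) K)}

include D in
theorem T_mem_of_hasRatSU (hM : HasRatSU q F₀ M) {v : Fin n → K} (hv : Rat F₀ v) (hvv : h v v = 0)
    {c : K} (hc : c ∈ F₀) (hcs : D.σ c = -c) : T v c ∈ MS M :=
  hM _ (RatM.T F₀ hv hc) (pres_T D hvv hcs) (det_T D hvv c)

include D in
theorem S_mem_of_hasRatSU (hM : HasRatSU q F₀ M) {u w : Fin n → K} (hu : Rat F₀ u) (hw : Rat F₀ w)
    (huu : h u u = 0) (hww : h w w = 0) (hwu : h w u = 0) {c : K} (hc : c ∈ F₀) :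
    S q u w c ∈ MS M :=
  hM _ (RatM.S F₀ hu hw hc) (pres_S D huu hww hwu c) (det_S D huu hwu c)

include D in
theorem Sg_mem_of_hasRatSU (hM : HasRatSU q F₀ M) {x w : Fin n → K} (hx : Rat F₀ x) (hw : Rat F₀ w)
    (hxx : h x x = 0) (hwx : h w x = 0) {c : K} (hc : c ∈ F₀) (hcn : c + D.σ c + h w w = 0) :
    Sg (q := q) x w c ∈ MS M :=
  hM _ (RatM.Sg F₀ hx hw hc) (Sg_pres D x w c hxx hwx hcn) (Sg_det D x w c hxx hwx)

include D in
/-- conjugating a transvection of `M` by an element of `M` -/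
theorem MS_conj_T (hMG : M ≤ Cfsg.GU n K q ⊓ Cfsg.Geo.specialLinear (Fin n) K)
    {A : Matrix (Fin n) (Fin n) K} (hA : A ∈ MS M) {v : Fin n → K} {c : K} (hT : T v c ∈ MS M) :
    T (A *ᵥ v) c ∈ MS M := by
  have hP := pres_of_MS hMG hA
  obtain ⟨g, hg, rfl⟩ := hA
  have := MS_conj g hg hT
  rwa [conj_T D hP (mul_inv_coe g)] at this

include D in
theorem MS_conj_Sg (hMG : M ≤ Cfsg.GU n K q ⊓ Cfsg.Geo.specialLinear (Fin n) K)
    {A : Matrix (Fin n) (Fin n) K} (hA : A ∈ MS M) {x w : Fin n → K} {c : K}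
    (hS : Sg (q := q) x w c ∈ MS M) : Sg (q := q) (A *ᵥ x) (A *ᵥ w) c ∈ MS M := by
  have hP := pres_of_MS hMG hA
  obtain ⟨g, hg, rfl⟩ := hA
  have := MS_conj g hg hS
  rwa [conj_Sg D hP (mul_inv_coe g)] at this

include D in
theorem MS_conj_S (hMG : M ≤ Cfsg.GU n K q ⊓ Cfsg.Geo.specialLinear (Fin n) K)
    {A : Matrix (Fin n) (Fin n) K} (hA : A ∈ MS M) {u w : Fin n → K} {c : K}
    (hS : S q u w c ∈ MS M) : S q (A *ᵥ u) (A *ᵥ w) c ∈ MS M := by
  have hP := pres_of_MS hMG hA
  obtain ⟨g, hg, rfl⟩ := hA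
  have := MS_conj g hg hS
  rwa [conj_S D hP (mul_inv_coe g)] at this

/-! ### more calculus: the Heisenberg group `Q_b`, frames, independence -/

include D in
/-- `Sg b w c = Sg b w 0 * T b c` -/
theorem Sg_eq_mul_T {b w : Fin n → K} (hbb : h b b = 0) (hwb : h w b = 0) (c : K) :
    Sg (q := q) b w c = Sg (q := q) b w 0 * T b c := by
  rw [← Sg_zero D b c, Sg_mul D b w 0 0 c hbb hwb (h_zero_left b), add_zero, zero_add,
    h_zero_left, sub_zero]

include D in
/-- `Sg b (a • x) c = S b x a * T b c` -/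
theorem Sg_smul_eq {b x : Fin n → K} (hbb : h b b = 0) (hxb : h x b = 0) (a c : K) :
    Sg (q := q) b (a • x) c = S q b x a * T b c := by
  unfold S
  exact Sg_eq_mul_T D hbb (by rw [h_smul_left, hxb, mul_zero]) c

include D in
/-- the commutator formula in the Heisenberg group `Q_b` -/
theorem Sg_comm {b w₁ w₂ : Fin n → K} (hbb : h b b = 0) (h1 : h w₁ b = 0) (h2 : h w₂ b = 0)
    (c₁ c₂ : K) :
    Sg (q := q) b w₁ c₁ * Sg (q := q) b w₂ c₂ =
      Sg (q := q) b w₂ c₂ * Sg (q := q) b w₁ c₁ * T b (h w₁ w₂ - h w₂ w₁) := by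
  rw [Sg_mul D b w₁ w₂ c₁ c₂ hbb h1 h2, Sg_mul D b w₂ w₁ c₂ c₁ hbb h2 h1, ← Sg_zero D b,
    Sg_mul D b (w₂ + w₁) 0 _ _ hbb (by rw [h_add_left, h1, h2, add_zero]) (h_zero_left b),
    h_zero_left, add_zero, add_comm w₂ w₁]
  congr 1
  ring

omit D in
/-- two vectors separated by a third one are linearly independent -/
theorem li_pair {x y z : Fin n → K} (hxz : h x z ≠ 0) (hyz : h y z = 0) (hy0 : y ≠ 0) :
    LinearIndependent K ![x, y] := by
  rw [LinearIndependent.pair_iff]
  intro a b hab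
  have h1 : a * h x z = 0 := by
    have := congrArg (fun t => h t z) hab
    simp only [h_add_left, h_smul_left, hyz, mul_zero, add_zero, h_zero_left] at this
    exact this
  have ha : a = 0 := (mul_eq_zero.mp h1).resolve_right hxz
  rw [ha, zero_smul, zero_add] at hab
  exact ⟨ha, (smul_eq_zero.mp hab).resolve_right hy0⟩

omit D in
theorem HFrame.e_ne_zero {k : ℕ} {e f : Fin k → Fin n → K} (H : HFrame q F₀ e f) (i : Fin k) :
    e i ≠ 0 := by
  intro h0
  have := H.ef i i
  rw [h0, h_zero_left, if_pos rfl] at this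
  exact zero_ne_one this

include D in
theorem HFrame.fe {k : ℕ} {e f : Fin k → Fin n → K} (H : HFrame q F₀ e f) (i j : Fin k) :
    h (f i) (e j) = if i = j then 1 else 0 := by
  rw [← h_conj D, H.ef j i]
  by_cases hij : i = j
  · rw [if_pos hij, if_pos hij.symm, map_one]
  · rw [if_neg hij, if_neg (Ne.symm hij), map_zero]

include D in
theorem HFrame.f_ne_zero {k : ℕ} {e f : Fin k → Fin n → K} (H : HFrame q F₀ e f) (i : Fin k) :
    f i ≠ 0 := by
  intro h0
  have := H.fe D i i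
  rw [h0, h_zero_left, if_pos rfl] at this
  exact zero_ne_one this

omit D in
theorem HFrame.li_ee {k : ℕ} {e f : Fin k → Fin n → K} (H : HFrame q F₀ e f) {i j : Fin k}
    (hij : i ≠ j) : LinearIndependent K ![e i, e j] :=
  li_pair (z := f i) (by rw [H.ef, if_pos rfl]; exact one_ne_zero)
    (by rw [H.ef, if_neg (Ne.symm hij)]) (H.e_ne_zero j)

include D in
theorem HFrame.li_ef {k : ℕ} {e f : Fin k → Fin n → K} (H : HFrame q F₀ e f) (i j : Fin k) :
    LinearIndependent K ![e i, f j] :=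
  li_pair (z := f i) (by rw [H.ef, if_pos rfl]; exact one_ne_zero)
    (by rw [H.ff]) (H.f_ne_zero D j)

omit D in
/-- the coefficients of a rational vector of `⟨e i, e j⟩` are rational -/
theorem HFrame.coeff_mem {k : ℕ} {e f : Fin k → Fin n → K} (H : HFrame q F₀ e f) {i j : Fin k}
    (hij : i ≠ j) {a b : K} (hx : Rat F₀ (a • e i + b • e j)) : a ∈ F₀ ∧ b ∈ F₀ := by
  have h1 := Rat.herm F₀ (q := q) hx (H.rat_f i)
  have h2 := Rat.herm F₀ (q := q) hx (H.rat_f j)
  rw [h_add_left, h_smul_left, h_smul_left, H.ef, H.ef, if_pos rfl, if_neg (Ne.symm hij)] at h1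
  rw [h_add_left, h_smul_left, h_smul_left, H.ef, H.ef, if_pos rfl, if_neg hij] at h2
  constructor
  · simpa using h1
  · simpa using h2

/-! ### the subfield as a field with involution -/

/-- the vector over `K` with the entries of `u₀` -/
def up (F₀ : Subfield K) (u₀ : Fin n → F₀) : Fin n → K := fun i => (u₀ i : K)

omit D in
theorem rat_up (u₀ : Fin n → F₀) : Rat F₀ (up F₀ u₀) := fun i => (u₀ i).2

omit D in
theorem exists_up {u : Fin n → K} (hu : Rat F₀ u) : ∃ u₀ : Fin n → F₀, up F₀ u₀ = u :=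
  ⟨fun i => ⟨u i, hu i⟩, rfl⟩

omit D in
theorem up_injective : Function.Injective (up F₀ : (Fin n → F₀) → Fin n → K) := by
  intro a b hab
  funext i
  exact Subtype.ext (congrFun hab i)

omit D in
theorem up_add (a b : Fin n → F₀) : up F₀ (a + b) = up F₀ a + up F₀ b := rfl

omit D in
theorem up_zero : up F₀ (0 : Fin n → F₀) = 0 := rfl

omit D in
theorem up_neg (a : Fin n → F₀) : up F₀ (-a) = -up F₀ a := rfl

omit D in
theorem up_sub (a b : Fin n → F₀) : up F₀ (a - b) = up F₀ a - up F₀ b := rfl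

omit D in
theorem up_smul (t : F₀) (a : Fin n → F₀) : up F₀ (t • a) = (t : K) • up F₀ a := rfl

omit D in
theorem herm_up (a b : Fin n → F₀) :
    h (up F₀ a) (up F₀ b) = ((Cfsg.hermForm n F₀ q a b : F₀) : K) := by
  unfold Cfsg.hermForm up
  push_cast
  rfl

/-- the matrix over `K` with the entries of `A₀` -/
def upM (F₀ : Subfield K) (A₀ : Matrix (Fin n) (Fin n) F₀) : Matrix (Fin n) (Fin n) K :=
  A₀.map F₀.subtype

omit D in
theorem ratM_upM (A₀ : Matrix (Fin n) (Fin n) F₀) : RatM F₀ (upM F₀ A₀) := fun i j => (A₀ i j).2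

omit D in
theorem upM_mulVec (A₀ : Matrix (Fin n) (Fin n) F₀) (u₀ : Fin n → F₀) :
    upM F₀ A₀ *ᵥ up F₀ u₀ = up F₀ (A₀ *ᵥ u₀) := by
  funext i
  simp only [upM, up, Matrix.mulVec, dotProduct, Matrix.map_apply, Subfield.coe_subtype]
  push_cast
  rfl

omit D in
theorem upM_mul (A₀ B₀ : Matrix (Fin n) (Fin n) F₀) : upM F₀ (A₀ * B₀) = upM F₀ A₀ * upM F₀ B₀ := by
  unfold upM
  rw [Matrix.map_mul]

omit D in
theorem upM_one : upM F₀ (1 : Matrix (Fin n) (Fin n) F₀) = 1 := by
  unfold upM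
  rw [Matrix.map_one] <;> simp

omit D in
theorem upM_det (A₀ : Matrix (Fin n) (Fin n) F₀) : (upM F₀ A₀).det = ((A₀.det : F₀) : K) := by
  unfold upM
  rw [← RingHom.mapMatrix_apply, ← RingHom.map_det]
  rfl

/-- the involution of the subfield -/
def frob0 (D : Frob K q) (F₀ : Subfield K) (hne : ∃ θ ∈ F₀, D.σ θ ≠ θ) : Frob F₀ q where
  σ :=
    { toFun := fun x => ⟨D.σ x, sigma_mem D F₀ x.2⟩
      map_one' := Subtype.ext (by simp)
      map_mul' := fun x y => Subtype.ext (by simp)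
      map_zero' := Subtype.ext (by simp)
      map_add' := fun x y => Subtype.ext (by simp) }
  pow := fun x => Subtype.ext (by simp [D.pow])
  invol := fun x => Subtype.ext (by simp [D.invol])
  ne_id := by
    obtain ⟨θ, hθ, hne⟩ := hne
    intro hid
    apply hne
    have := RingHom.congr_fun hid ⟨θ, hθ⟩
    exact congrArg Subtype.val this

omit D in
theorem frob0_coe (D : Frob K q) (F₀ : Subfield K) (hne : ∃ θ ∈ F₀, D.σ θ ≠ θ) (x : F₀) :
    (((frob0 D F₀ hne).σ x : F₀) : K) = D.σ x := rfl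

omit D in
/-- a non-zero rational skew element -/
theorem exists_rat_skew (D : Frob K q) (F₀ : Subfield K) (hne : ∃ θ ∈ F₀, D.σ θ ≠ θ) :
    ∃ s : K, s ∈ F₀ ∧ s ≠ 0 ∧ D.σ s = -s := by
  obtain ⟨s, hs0, hs⟩ := exists_skew (frob0 D F₀ hne)
  refine ⟨(s : K), s.2, fun h0 => hs0 (Subtype.ext h0), ?_⟩
  have := congrArg Subtype.val hs
  rw [frob0_coe] at this
  simpa using this

omit D in
/-- a rational element not fixed by `σ`, with `θ - σ θ` rational and non-zero -/
theorem exists_rat_trace (D : Frob K q) (F₀ : Subfield K) (hne : ∃ θ ∈ F₀, D.σ θ ≠ θ) {δ : K}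
    (hδ : δ ∈ F₀) (hfix : D.σ δ = δ) : ∃ t : K, t ∈ F₀ ∧ t + D.σ t = δ := by
  obtain ⟨t, ht⟩ := exists_trace (frob0 D F₀ hne) ⟨δ, hδ⟩ (Subtype.ext (by rw [frob0_coe]; exact hfix))
  refine ⟨(t : K), t.2, ?_⟩
  have := congrArg Subtype.val ht
  simpa [frob0_coe] using this

omit D in
/-- the norm of the subfield is onto its fixed field -/
theorem exists_rat_norm [Finite K] (D : Frob K q) (F₀ : Subfield K) (hne : ∃ θ ∈ F₀, D.σ θ ≠ θ) {c : K}
    (hc : c ∈ F₀) (hc0 : c ≠ 0) (hfix : D.σ c = c) : ∃ a : K, a ∈ F₀ ∧ a * D.σ a = c := by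
  have : Finite F₀ := Finite.of_injective (fun x : F₀ => (x : K)) Subtype.val_injective
  obtain ⟨a, ha⟩ := exists_norm (frob0 D F₀ hne) ⟨c, hc⟩ (fun h0 => hc0 (congrArg Subtype.val h0))
    (Subtype.ext (by rw [frob0_coe]; exact hfix))
  refine ⟨(a : K), a.2, ?_⟩
  have := congrArg Subtype.val ha
  simpa [frob0_coe] using this

include D in
/-- a rational matrix preserving the form on the rational vectors preserves it -/
theorem pres_upM (A₀ : Matrix (Fin n) (Fin n) F₀) (hA : Pres (q := q) A₀) :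
    Pres (q := q) (upM F₀ A₀) := by
  have key : ∀ i j : Fin n, h (upM F₀ A₀ *ᵥ Pi.single i 1) (upM F₀ A₀ *ᵥ Pi.single j 1) =
      h (Pi.single i 1 : Fin n → K) (Pi.single j 1) := by
    intro i j
    have e : ∀ k : Fin n, (Pi.single k 1 : Fin n → K) = up F₀ (Pi.single k 1) := by
      intro k
      funext l
      simp only [up, Pi.single_apply]
      split_ifs <;> simp
    rw [e i, e j, upM_mulVec, upM_mulVec, herm_up, herm_up, hA]
  intro x y
  have hx : x = ∑ i, x i • (Pi.single i 1 : Fin n → K) := by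
    funext k
    simp [Finset.sum_apply, Pi.single_apply]
  have hy : y = ∑ i, y i • (Pi.single i 1 : Fin n → K) := by
    funext k
    simp [Finset.sum_apply, Pi.single_apply]
  rw [hx, hy]
  simp only [Matrix.mulVec_sum, Matrix.mulVec_smul, h_sum_left, h_sum_right D, h_smul_left,
    h_smul_right D, key]

end Cfsg.Agent.S5658P
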