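import Mathlib
import Cfsg.Agent.Helper28.S5658.Defs
import Cfsg.Agent.Helper28.S5658.Lib
import Cfsg.Agent.Helper11.S5658RGRP
import Cfsg.Agent.Helper11.S5658RNCYC
import Cfsg.Agent.Helper18.S5658PROPER
import Cfsg.Agent.Helper18.S5658RSUB
import Cfsg.Agent.Helper21.S5658ALLQ
import Cfsg.Agent.Helper22.S5658FROB0
import Cfsg.Agent.Helper23.S5658KLONG
import Cfsg.Agent.Helper23.S5658KONE
import Cfsg.Agent.Helper23.S5658KSRING
import Cfsg.Agent.Helper24.S5658HYPB2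
import Cfsg.Agent.Helper29.S5658DIMG
import Cfsg.Agent.Helper29.S5658DSTAB
import Cfsg.Agent.Helper4.S5658GENSU
import Cfsg.Agent.Helper6.S5658REDUCE
import Cfsg.Agent.Helper8.S5658LOWRANK
import Cfsg.Agent.Helper8.S5658STABN
import Cfsg.Agent.Helper13.S5639BURN
import Cfsg.Agent.Helper25.S5639SUBPRIME
import Cfsg.Agent.Helper1.S5639Final
import Cfsg.Agent.Helper28.Herm
import Cfsg.Agent.S0837

/-! # S5658: assembly (driver helper28) -/

set_option autoImplicit false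

namespace Cfsg.Agent.S5658P

open Matrix
open Cfsg.Agent.S2644 Cfsg.Agent.Helper2.SUGen Cfsg.Agent.Helper28.SimMax Cfsg.Agent.S5639P

variable {K : Type*} [Field K] {q n : ℕ}

local notation "h" => Cfsg.hermForm n K q
local notation "T" => Cfsg.unitaryTransvection n q

namespace TRANSFER

/-- a self-normalising `p`-subgroup is a maximal `p`-subgroup -/
theorem max_of_normalizer_le {G : Type*} [Group G] [Finite G] (p : ℕ) [Fact p.Prime]
    (R : Subgroup G) (hN : Subgroup.normalizer (R : Set G) ≤ R) (Q : Subgroup G)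
    (hQ : IsPGroup p Q) (hRQ : R ≤ Q) : Q = R := by
  by_contra hne
  set H : Subgroup Q := R.subgroupOf Q with hH
  have hHtop : H < ⊤ := by
    rw [lt_top_iff_ne_top]
    intro htop
    rw [hH, Subgroup.subgroupOf_eq_top] at htop
    exact hne (le_antisymm htop hRQ)
  have : Group.IsNilpotent Q := hQ.isNilpotent
  have hnc : NormalizerCondition Q := Group.normalizerCondition_of_isNilpotent
  obtain ⟨x, hxN, hxH⟩ := SetLike.exists_of_lt (hnc H hHtop)
  apply hxH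
  rw [hH, Subgroup.mem_subgroupOf]
  apply hN
  rw [Subgroup.mem_set_normalizer_iff]
  intro m
  rw [Subgroup.mem_normalizer_iff] at hxN
  constructor
  · intro hm
    have h1 := (hxN ⟨m, hRQ hm⟩).1 (Subgroup.mem_subgroupOf.2 hm)
    exact Subgroup.mem_subgroupOf.1 h1
  · intro hm
    have hmQ : m ∈ Q := by
      have h1 : (x : G) * m * (x : G)⁻¹ ∈ Q := hRQ hm
      have h2 := Q.mul_mem (Q.mul_mem (Q.inv_mem x.2) h1) x.2
      simpa [mul_assoc] using h2
    have h1 := (hxN ⟨m, hmQ⟩).2 (Subgroup.mem_subgroupOf.2 hm)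
    exact Subgroup.mem_subgroupOf.1 h1

/-- the span of a totally isotropic pair is totally isotropic -/
theorem h_span_left (D : Frob K q) {u₀ w₀ x z : Fin n → K} (hx : x ∈ Submodule.span K {u₀, w₀})
    (h1 : h u₀ z = 0) (h2 : h w₀ z = 0) : h x z = 0 := by
  obtain ⟨a, b, rfl⟩ := Submodule.mem_span_pair.mp hx
  rw [h_add_left, h_smul_left, h_smul_left, h1, h2, mul_zero, mul_zero, add_zero]

/-- the centre of a transvection moving everything inside `Y` lies in `Y` -/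
theorem center_mem (D : Frob K q) {Y : Submodule K (Fin n → K)} {x : Fin n → K} {s : K} (hs : s ≠ 0)
    (hsub : ∀ z, T x s *ᵥ z - z ∈ Y) : x ∈ Y := by
  by_cases hx0 : x = 0
  · rw [hx0]; exact Y.zero_mem
  obtain ⟨z, hz⟩ : ∃ z, h z x ≠ 0 := by
    by_contra hcon
    push Not at hcon
    apply hx0
    apply h_nondeg D
    intro y
    exact h_symm_zero D (hcon y)
  have h1 := hsub z
  rw [T_mulVec, add_sub_cancel_left] at h1
  have h2 := Y.smul_mem (s * h z x)⁻¹ h1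
  rwa [smul_smul, inv_mul_cancel₀ (mul_ne_zero hs hz), one_smul] at h2

/-- **the transfer argument**: a root point of `M` is orthogonal to some rational isotropic point -/
theorem false_of_star [Fintype K] (hn : 13 ≤ n) (D : Frob K q) (F₀ : Subfield K)
    (hθ : ∃ θ ∈ F₀, D.σ θ ≠ θ) (r : ℕ) (hr : r.Prime) (hro : Odd r)
    (hcard : Fintype.card K = Nat.card F₀ ^ r)
    (M : Subgroup (Matrix.GeneralLinearGroup (Fin n) K))
    (hMG : M ≤ Cfsg.GU n K q ⊓ Cfsg.Geo.specialLinear (Fin n) K) (hRat : HasRatSU q F₀ M)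
    (hT : RootRatT D F₀ M) {u₀ w₀ v : Fin n → K} (hu : Rat F₀ u₀) (hw : Rat F₀ w₀)
    (huu : h u₀ u₀ = 0) (hww : h w₀ w₀ = 0) (hwu : h w₀ u₀ = 0)
    (hi : LinearIndependent K ![u₀, w₀]) (hvv : h v v = 0)
    (hstar : ∀ b : Fin n → K, Rat F₀ b → b ≠ 0 → h b b = 0 → h v b ≠ 0) {c₀ : K} (hc₀0 : c₀ ≠ 0)
    (hc₀ : D.σ c₀ = -c₀) (hTv : T v c₀ ∈ MS M) : False := by
  classical
  obtain ⟨y, hyM, hy⟩ := hTv
  obtain ⟨p, hp⟩ := CharP.exists K
  haveI : Fact p.Prime := ⟨(CharP.char_is_prime_or_zero K p).resolve_right (by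
    intro h0
    subst h0
    haveI : CharZero K := CharP.charP_to_charZero K
    exact not_finite K)⟩
  obtain ⟨s₀, hs₀F, hs₀0, hs₀⟩ := exists_rat_skew D F₀ hθ
  have hu0 : u₀ ≠ 0 := by
    have := hi.ne_zero 0
    simpa using this
  have huw : h u₀ w₀ = 0 := h_symm_zero D hwu
  set Y : Submodule K (Fin n → K) := Submodule.span K {u₀, w₀} with hY
  have hu₀Y : u₀ ∈ Y := Submodule.subset_span (by simp)
  set Dg := Dgrp D F₀ y u₀ w₀ with hDg
  have hRD : Rgrp D F₀ u₀ w₀ ≤ Dg := le_sup_left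
  have hDM : Dg ≤ M := DIMG.le D F₀ M hRat hu hw huu hww hwu y hyM
  have hstab : ∀ g ∈ Dg, ∀ ua : Fin n → K, Rat F₀ ua → ua ≠ 0 → ua ∈ Y →
      (g : Matrix (Fin n) (Fin n) K) *ᵥ ua ∈ Y → g ∈ Rgrp D F₀ u₀ w₀ := by
    intro g hg ua hua hua0 huaY hgua
    exact DSTAB.mem hn D F₀ hθ r hr hro hcard M hMG hRat hT hu hw huu hww hwu hi hvv hstar hc₀ y hy
      hyM hg hua hua0 huaY hgua
  -- the rational transvection `tu = T u₀ s₀`
  set tu : Matrix.GeneralLinearGroup (Fin n) K :=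
    toGL (T u₀ s₀) (T u₀ (-s₀)) (T_mul_neg huu s₀) (T_neg_mul huu s₀) with htu
  have htuR : tu ∈ Rgrp D F₀ u₀ w₀ := by
    rw [RGRP.mem_iff D F₀ huu hww hwu]
    refine ⟨s₀, 0, 0, hs₀F, F₀.zero_mem, F₀.zero_mem, hs₀, by simp, ?_⟩
    rw [htu, toGL_val, T_zero, S_zero D, mul_one, mul_one]
  -- conjugates of `tu` inside `R` have their centre in `Y`
  have hconj : ∀ g : Matrix.GeneralLinearGroup (Fin n) K, g ∈ M → g * tu * g⁻¹ ∈ Rgrp D F₀ u₀ w₀ →
      (g : Matrix (Fin n) (Fin n) K) *ᵥ u₀ ∈ Y := by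
    intro g hgM hmem
    rw [RGRP.mem_iff D F₀ huu hww hwu] at hmem
    have hP : Pres (q := q) (g : Matrix (Fin n) (Fin n) K) := ((mem_G_iff g).1 (hMG hgM)).1
    have e : ((g * tu * g⁻¹ : Matrix.GeneralLinearGroup (Fin n) K) : Matrix (Fin n) (Fin n) K) =
        T ((g : Matrix (Fin n) (Fin n) K) *ᵥ u₀) s₀ := by
      rw [Units.val_mul, Units.val_mul, htu, toGL_val, conj_T D hP (mul_inv_coe g)]
    rw [e] at hmem
    exact center_mem D hs₀0 (fun z => RSUB.sub_mem D F₀ huu hww hwu hmem z)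
  set R : Subgroup Dg := (Rgrp D F₀ u₀ w₀).subgroupOf Dg with hRdef
  have hN : Subgroup.normalizer (R : Set Dg) ≤ R := by
    intro g hg
    rw [Subgroup.mem_set_normalizer_iff] at hg
    have h1 := (hg ⟨tu, hRD htuR⟩).1 (Subgroup.mem_subgroupOf.2 htuR)
    have h2 : (g : Matrix.GeneralLinearGroup (Fin n) K) * tu *
        (g : Matrix.GeneralLinearGroup (Fin n) K)⁻¹ ∈ Rgrp D F₀ u₀ w₀ := Subgroup.mem_subgroupOf.1 h1
    rw [hRdef, Subgroup.mem_subgroupOf]
    exact hstab g g.2 u₀ hu hu0 hu₀Y (hconj g (hDM g.2) h2)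
  have hRtop : R = ⊤ := by
    refine BURN.eq_top p R ?_ ?_ ?_ ?_ hN ?_
    · exact (RGRP.isPGroup p D F₀ huu hww hwu).comap_subtype
    · intro a ha b hb
      apply Subtype.ext
      exact RGRP.comm D F₀ huu hww hwu a b ha hb
    · intro hcyc
      apply RNCYC.not_isCyclic p D F₀ hθ huu hww hwu hi
      have e : R ≃* Rgrp D F₀ u₀ w₀ := Subgroup.subgroupOfEquivOfLe hRD
      exact isCyclic_of_surjective e e.surjective
    · intro Q hQ hRQ
      exact max_of_normalizer_le p R hN Q hQ hRQ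
    · intro a ha ha1 g hg
      rw [Subgroup.mem_centralizer_singleton_iff] at hg
      have haR : (a : Matrix.GeneralLinearGroup (Fin n) K) ∈ Rgrp D F₀ u₀ w₀ :=
        Subgroup.mem_subgroupOf.1 ha
      have haS := (RGRP.mem_iff D F₀ huu hww hwu _).1 haR
      have haRat : RatM F₀ ((a : Matrix.GeneralLinearGroup (Fin n) K) : Matrix (Fin n) (Fin n) K) :=
        RSUB.ratM D F₀ hu hw haS
      -- a basis vector moved by `a`
      obtain ⟨i, hi'⟩ : ∃ i : Fin n,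
          ((a : Matrix.GeneralLinearGroup (Fin n) K) : Matrix (Fin n) (Fin n) K) *ᵥ Pi.single i 1 ≠
            Pi.single i 1 := by
        by_contra hcon
        push Not at hcon
        apply ha1
        apply Subtype.ext
        apply Units.ext
        apply mat_ext
        intro x
        have hx : x = ∑ i, x i • (Pi.single i 1 : Fin n → K) := by
          funext k
          simp [Finset.sum_apply, Pi.single_apply]
        rw [show (((1 : Dg) : Matrix.GeneralLinearGroup (Fin n) K) : Matrix (Fin n) (Fin n) K) = 1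
          from rfl, Matrix.one_mulVec]
        conv_lhs => rw [hx]
        simp only [Matrix.mulVec_sum, Matrix.mulVec_smul, hcon]
        exact hx.symm
      set ua : Fin n → K :=
        ((a : Matrix.GeneralLinearGroup (Fin n) K) : Matrix (Fin n) (Fin n) K) *ᵥ Pi.single i 1 -
          Pi.single i 1 with hua
      have huaR : Rat F₀ ua :=
        Cfsg.Agent.S5639P.Rat.sub (RatM.mulVec haRat (Cfsg.Agent.S5639P.Rat.single i F₀.one_mem))
          (Cfsg.Agent.S5639P.Rat.single i F₀.one_mem)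
      have hua0 : ua ≠ 0 := sub_ne_zero.mpr hi'
      have huaY : ua ∈ Y := RSUB.sub_mem D F₀ huu hww hwu haS _
      have hcomm : ((g : Matrix.GeneralLinearGroup (Fin n) K) : Matrix (Fin n) (Fin n) K) *
          ((a : Matrix.GeneralLinearGroup (Fin n) K) : Matrix (Fin n) (Fin n) K) =
          ((a : Matrix.GeneralLinearGroup (Fin n) K) : Matrix (Fin n) (Fin n) K) *
          ((g : Matrix.GeneralLinearGroup (Fin n) K) : Matrix (Fin n) (Fin n) K) := by
        have := congrArg (fun t : Dg => ((t : Matrix.GeneralLinearGroup (Fin n) K) :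
          Matrix (Fin n) (Fin n) K)) hg
        simp only [Subgroup.coe_mul, Units.val_mul] at this
        exact this
      have hgua : ((g : Matrix.GeneralLinearGroup (Fin n) K) : Matrix (Fin n) (Fin n) K) *ᵥ ua ∈ Y := by
        rw [hua, Matrix.mulVec_sub, Matrix.mulVec_mulVec, hcomm, ← Matrix.mulVec_mulVec]
        exact RSUB.sub_mem D F₀ huu hww hwu haS _
      rw [hRdef, Subgroup.mem_subgroupOf]
      exact hstab g g.2 ua huaR hua0 huaY hgua
  -- `D = R`, so `y tu y⁻¹ ∈ R`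
  have hDR : Dg ≤ Rgrp D F₀ u₀ w₀ := by
    intro g hg
    have : (⟨g, hg⟩ : Dg) ∈ R := by rw [hRtop]; exact Subgroup.mem_top _
    exact Subgroup.mem_subgroupOf.1 this
  have hyt : y * tu * y⁻¹ ∈ Dg := by
    apply Subgroup.mem_sup_right
    exact ⟨tu, htuR, rfl⟩
  have hyu : (y : Matrix (Fin n) (Fin n) K) *ᵥ u₀ ∈ Y := hconj y hyM (hDR hyt)
  rw [hy, T_mulVec] at hyu
  have h1 : (c₀ * h u₀ v) • v ∈ Y := by
    have := Y.sub_mem hyu hu₀Y
    rwa [add_sub_cancel_left] at this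
  have hu₀v : h u₀ v ≠ 0 := h_symm_ne D (hstar u₀ hu hu0 huu)
  have hvY : v ∈ Y := by
    have := Y.smul_mem (c₀ * h u₀ v)⁻¹ h1
    rwa [smul_smul, inv_mul_cancel₀ (mul_ne_zero hc₀0 hu₀v), one_smul] at this
  exact hstar u₀ hu hu0 huu (h_span_left D hvY huu hwu)

end TRANSFER

namespace MAIN

/-- `HasRatSU` for a subgroup containing the standard subfield group of `SU` -/
theorem hasRatSU (F₀ : Subfield K) (M : Subgroup (Matrix.GeneralLinearGroup (Fin n) K))
    (hle : Cfsg.Geo.subfieldSubgroup F₀ (1 : Matrix.GeneralLinearGroup (Fin n) K) ⊓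
      (Cfsg.GU n K q ⊓ Cfsg.Geo.specialLinear (Fin n) K) ≤ M) : HasRatSU q F₀ M := by
  intro A hA hP hdet
  have hu : IsUnit A.det := by rw [hdet]; exact isUnit_one
  set g : Matrix.GeneralLinearGroup (Fin n) K :=
    toGL A A⁻¹ (Matrix.mul_nonsing_inv A hu) (Matrix.nonsing_inv_mul A hu) with hg
  refine ⟨g, hle (Subgroup.mem_inf.2 ⟨?_, ?_⟩), rfl⟩
  · rw [FINAL.mem_subf_iff]
    refine ⟨1, one_ne_zero, ?_⟩
    have e : (((1 : Matrix.GeneralLinearGroup (Fin n) K)⁻¹ * g * 1 :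
        Matrix.GeneralLinearGroup (Fin n) K) : Matrix (Fin n) (Fin n) K) = A := by
      rw [inv_one, one_mul, mul_one]; rfl
    rw [one_smul, e]
    exact hA
  · rw [mem_G_iff]
    exact ⟨hP, hdet⟩

/-- the rational case: every element of `M` is in `K^* GL_n(F₀)` -/
theorem inN_of_rootRat [Fintype K] (hn : 13 ≤ n) (D : Frob K q) (F₀ : Subfield K)
    (hθ : ∃ θ ∈ F₀, D.σ θ ≠ θ) (r : ℕ) (hr : r.Prime) (hro : Odd r)
    (hcard : Fintype.card K = Nat.card F₀ ^ r)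
    (M : Subgroup (Matrix.GeneralLinearGroup (Fin n) K))
    (hMG : M ≤ Cfsg.GU n K q ⊓ Cfsg.Geo.specialLinear (Fin n) K) (hRat : HasRatSU q F₀ M)
    (hT : RootRatT D F₀ M) (g : Matrix.GeneralLinearGroup (Fin n) K) (hg : g ∈ M) :
    InN F₀ (g : Matrix (Fin n) (Fin n) K) := by
  obtain ⟨u₀, w₀, hu, hw, huu, hww, hwu, hi⟩ := HYPB2.exists_pair hn D F₀ hθ
  obtain ⟨s₀, hs₀F, hs₀0, hs₀⟩ := exists_rat_skew D F₀ hθ
  have hu0 : u₀ ≠ 0 := by
    have := hi.ne_zero 0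
    simpa using this
  have hTu : T u₀ s₀ ∈ MS M := T_mem_of_hasRatSU D hRat hu huu hs₀F hs₀
  have hTv : T ((g : Matrix (Fin n) (Fin n) K) *ᵥ u₀) s₀ ∈ MS M :=
    MS_conj_T D hMG ⟨g, hg, rfl⟩ hTu
  have hP : Pres (q := q) (g : Matrix (Fin n) (Fin n) K) := ((mem_G_iff g).1 (hMG hg)).1
  have hvv : h ((g : Matrix (Fin n) (Fin n) K) *ᵥ u₀) ((g : Matrix (Fin n) (Fin n) K) *ᵥ u₀) = 0 := by
    rw [hP]; exact huu
  by_cases hex : ∃ b : Fin n → K, Rat F₀ b ∧ b ≠ 0 ∧ h b b = 0 ∧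
      h ((g : Matrix (Fin n) (Fin n) K) *ᵥ u₀) b = 0
  · obtain ⟨b, hb, hb0, hbb, hvb⟩ := hex
    have hPR := LOWRANK.prat hn D F₀ hθ M hMG hRat hT hs₀0 hs₀ hvv hTv hb hb0 hbb hvb
    exact STABN.inN hn D F₀ hθ M hMG hRat hT hg hu hu0 huu hPR
  · push Not at hex
    exact (TRANSFER.false_of_star hn D F₀ hθ r hr hro hcard M hMG hRat hT hu hw huu hww hwu hi hvv
      (fun b hb hb0 hbb => hex b hb hb0 hbb) hs₀0 hs₀ hTv).elim

/-- **the core**: overgroups of the standard subfield group in `SU` -/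
theorem core [Fintype K] (hK : Fintype.card K = q ^ 2) (hn : 13 ≤ n) (D : Frob K q)
    (F₀ : Subfield K) (hθ : ∃ θ ∈ F₀, D.σ θ ≠ θ) (r : ℕ) (hr : r.Prime) (hro : Odd r)
    (hcard : Fintype.card K = Nat.card F₀ ^ r)
    (M : Subgroup (Matrix.GeneralLinearGroup (Fin n) K))
    (hle : Cfsg.Geo.subfieldSubgroup F₀ (1 : Matrix.GeneralLinearGroup (Fin n) K) ⊓
      (Cfsg.GU n K q ⊓ Cfsg.Geo.specialLinear (Fin n) K) ≤ M)
    (hMG : M ≤ Cfsg.GU n K q ⊓ Cfsg.Geo.specialLinear (Fin n) K) :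
    M = Cfsg.Geo.subfieldSubgroup F₀ (1 : Matrix.GeneralLinearGroup (Fin n) K) ⊓
      (Cfsg.GU n K q ⊓ Cfsg.Geo.specialLinear (Fin n) K) ∨
    M = Cfsg.GU n K q ⊓ Cfsg.Geo.specialLinear (Fin n) K := by
  have hRat : HasRatSU q F₀ M := hasRatSU F₀ M hle
  obtain ⟨L, hFL, hL⟩ := KSRING.exists_subfield hn D F₀ hθ M hMG hRat
  rcases SUBPRIME.eq_or_top F₀ L hFL r hr hcard with hLF | hLtop
  · left
    have hKS : KS q F₀ M = (F₀ : Set K) := by rw [← hL, hLF]
    have hT : RootRatT D F₀ M := by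
      intro u c hu hu0 huu hc hTu
      have h1 : c ∈ KT D F₀ M := KONE.KT_of_one hn D F₀ hθ M hMG hRat hu hu0 huu hc hTu
      have h2 : c ∈ KS q F₀ M := KLONG.KT_subset_KS D F₀ M h1
      rw [hKS] at h2
      exact h2
    apply le_antisymm _ hle
    intro g hg
    refine Subgroup.mem_inf.2 ⟨?_, hMG hg⟩
    rw [FINAL.mem_subf_iff]
    have := inN_of_rootRat hn D F₀ hθ r hr hro hcard M hMG hRat hT g hg
    simpa using this
  · right
    have hKS : KS q F₀ M = Set.univ := by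
      rw [← hL, hLtop]; rfl
    apply le_antisymm hMG
    apply GENSU.le hK hn D F₀ hθ M
    intro b w c hb hbb hwb hc
    exact ALLQ.Sg_mem hn D F₀ hθ M hMG hRat hKS hb hbb hwb hc

/-- the standard subfield group is proper in `SU` -/
theorem proper [Fintype K] (hn : 13 ≤ n) (D : Frob K q) (F₀ : Subfield K)
    (hθ : ∃ θ ∈ F₀, D.σ θ ≠ θ) (r : ℕ) (hr : r.Prime)
    (hcard : Fintype.card K = Nat.card F₀ ^ r) :
    Cfsg.Geo.subfieldSubgroup F₀ (1 : Matrix.GeneralLinearGroup (Fin n) K) ⊓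
      (Cfsg.GU n K q ⊓ Cfsg.Geo.specialLinear (Fin n) K) <
    Cfsg.GU n K q ⊓ Cfsg.Geo.specialLinear (Fin n) K := by
  refine lt_of_le_of_ne inf_le_right ?_
  intro heq
  obtain ⟨g, hg, hgN⟩ := PROPER.exists_not_inN hn D F₀ hθ r hr hcard
  apply hgN
  have hmem : g ∈ Cfsg.Geo.subfieldSubgroup F₀ (1 : Matrix.GeneralLinearGroup (Fin n) K) ⊓
      (Cfsg.GU n K q ⊓ Cfsg.Geo.specialLinear (Fin n) K) := by
    rw [heq]; exact hg
  have h1 := (FINAL.mem_subf_iff F₀ 1 g).1 hmem.1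
  simpa using h1

theorem maximal_std [Fintype K] (hK : Fintype.card K = q ^ 2) (hn : 13 ≤ n) (D : Frob K q)
    (F₀ : Subfield K) (hθ : ∃ θ ∈ F₀, D.σ θ ≠ θ) (r : ℕ) (hr : r.Prime) (hro : Odd r)
    (hcard : Fintype.card K = Nat.card F₀ ^ r) :
    Cfsg.Geo.IsMaximalIn (Cfsg.GU n K q ⊓ Cfsg.Geo.specialLinear (Fin n) K)
      (Cfsg.Geo.subfieldSubgroup F₀ (1 : Matrix.GeneralLinearGroup (Fin n) K) ⊓
        (Cfsg.GU n K q ⊓ Cfsg.Geo.specialLinear (Fin n) K)) :=
  ⟨proper hn D F₀ hθ r hr hcard,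
    fun M hle hMG => core hK hn D F₀ hθ r hr hro hcard M hle hMG⟩

/-- maximality is transported by an automorphism -/
theorem isMaximalIn_map {G : Type*} [Group G] (φ : G ≃* G) {A H : Subgroup G}
    (hm : Cfsg.Geo.IsMaximalIn A H) :
    Cfsg.Geo.IsMaximalIn (A.map φ.toMonoidHom) (H.map φ.toMonoidHom) := by
  have hinj : Function.Injective φ.toMonoidHom := φ.injective
  refine ⟨(Subgroup.map_lt_map_iff_of_injective hinj).2 hm.1, ?_⟩
  intro M hHM hMK
  have h1 : H ≤ M.comap φ.toMonoidHom := Subgroup.map_le_iff_le_comap.1 hHM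
  have h2 : M.comap φ.toMonoidHom ≤ A := by
    intro x hx
    have : φ.toMonoidHom x ∈ A.map φ.toMonoidHom := hMK hx
    obtain ⟨y, hy, hxy⟩ := this
    rw [← hinj hxy]; exact hy
  have hsurj : Function.Surjective φ.toMonoidHom := φ.surjective
  have hM : (M.comap φ.toMonoidHom).map φ.toMonoidHom = M :=
    Subgroup.map_comap_eq_self_of_surjective hsurj M
  rcases hm.2 _ h1 h2 with h3 | h3
  · left; rw [← hM, h3]
  · right; rw [← hM, h3]

/-- **S5658** -/
theorem maximal {F : Type*} [Field F] [Fintype F] (n q : ℕ) (hF : Fintype.card F = q ^ 2)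
    (hn : 13 ≤ n) (F₀ : Subfield F) (r : ℕ) (hr : r.Prime) (hro : Odd r)
    (hcard : Fintype.card F = Nat.card F₀ ^ r) (P : Matrix.GeneralLinearGroup (Fin n) F)
    (hP : Cfsg.Geo.IsFormRationalStructure (Cfsg.hermForm n F q) F₀ 1 P) :
    Cfsg.Geo.IsMaximalIn (Cfsg.GU n F q ⊓ Cfsg.Geo.specialLinear (Fin n) F)
      (Cfsg.Geo.subfieldSubgroup F₀ P ⊓ (Cfsg.GU n F q ⊓ Cfsg.Geo.specialLinear (Fin n) F)) := by
  classical
  obtain ⟨σ, hσ, hσ2⟩ := Cfsg.Agent.Helper28.exists_frob hF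
  have hσid := Cfsg.Agent.S0837.frob_ne_id hF σ hσ
  let D : Frob F q := ⟨σ, hσ, hσ2, hσid⟩
  have hθ : ∃ θ ∈ F₀, D.σ θ ≠ θ := FROB0.exists_ne D F₀ r hr hro hcard
  obtain ⟨Q, hQ1, hQ2⟩ := REDUCE.exists_conj D F₀ hθ P hP
  have hm := isMaximalIn_map (MulAut.conj Q) (maximal_std hF hn D F₀ hθ r hr hro hcard)
  have e1 : (Cfsg.Geo.subfieldSubgroup F₀ (1 : Matrix.GeneralLinearGroup (Fin n) F) ⊓
      (Cfsg.GU n F q ⊓ Cfsg.Geo.specialLinear (Fin n) F)).map (MulAut.conj Q).toMonoidHom =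
      (Cfsg.Geo.subfieldSubgroup F₀ (1 : Matrix.GeneralLinearGroup (Fin n) F)).map
        (MulAut.conj Q).toMonoidHom ⊓
      (Cfsg.GU n F q ⊓ Cfsg.Geo.specialLinear (Fin n) F).map (MulAut.conj Q).toMonoidHom :=
    Subgroup.map_inf _ _ _ (MulAut.conj Q).injective
  rw [e1, ← hQ1, hQ2] at hm
  exact hm

end MAIN

end Cfsg.Agent.S5658P
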